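import Cfsg.Agent.MT.Cz
import Cfsg.Agent.W.Gen

/-! Sylow 2-subgroups given by an embedding of an explicit group. -/

set_option autoImplicit false
set_option linter.unusedVariables false
set_option linter.unusedSectionVars false

namespace A8

open Cfsg Subgroup FT H4 H5 GW
open MT (Cj o2 card_img card_img_le isConj_mk ext0 conj_in2 cj_top cj_mk)

universe u

variable {G : Type u} [Group G] [Finite G]

theorem odd_part {T H : Subgroup G} (hT : IsSylowOf 2 T H) {n : G} (h1 : n ∈ H) (h2 : n ∈ Nor T) :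
    ∃ s ∈ T, ∃ y ∈ zpowers n, Odd (orderOf y) ∧ n = s * y := by
  obtain ⟨s, y, e1, e2, -, e4, e5, e6⟩ := L.exists_decomp (p := 2) n
  exact ⟨s, hT.le_of_le_normalizer' e1.isPGroup_zpowers (zpowers_le.2 (zpowers_le.2 h1 e5))
    (zpowers_le.mpr (zpowers_le.mpr h2 e5)) (mem_zpowers s), y, e6, odd_iff_cop.2 e2, e4⟩

theorem solv_of_der {H : Subgroup G} (h : Group.IsSolvable (⁅H, H⁆ : Subgroup G)) :
    Group.IsSolvable H := by
  obtain ⟨X, _, _, f, hf, hk⟩ := exists_hom_ker_eq (ncom (le_normalizer (H := H)) le_normalizer)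
  refine isSolvable_of_im hk le_rfl (isSolvable_of_isMulCommutative ⟨⟨fun a b => Subtype.ext ?_⟩⟩)
    (H5.isSolvable_of_le inf_le_right h)
  exact cen.1 ((commutator_le_iff_im hk le_rfl le_rfl).1 le_rfl a.2) b b.2

variable {C : Type} [Group C] [Fintype C] [DecidableEq C]

/-- the subgroup given by a Boolean predicate -/
def sub (p : C → Bool) (h : p 1 = true ∧ ∀ x, p x = true → p x⁻¹ = true ∧
    ∀ y, p y = true → p (x * y) = true) : Subgroup C where
  carrier := {x | p x = true}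
  one_mem' := h.1
  mul_mem' hx hy := (h.2 _ hx).2 _ hy
  inv_mem' hx := (h.2 _ hx).1

/-- the order of a centralizer -/
def cc (s : C) : ℕ := (Finset.univ.filter fun c => c * s = s * c).card

theorem cjS (j : C →* G) {g a b : C} (e : g * a * g⁻¹ = b) : Cj j.range (j a) (j b) :=
  ⟨j g, ⟨g, rfl⟩, by rw [← e, map_mul, map_mul, map_inv]⟩

theorem mapS (j : C →* G) (A : Subgroup C) : A.map j ≤ j.range := map_le_range j A

theorem norS (j : C →* G) {A : Subgroup C} (h : ∀ g, ∀ k ∈ A, g * k * g⁻¹ ∈ A) :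
    j.range ≤ Nor (A.map j) := by
  rw [MonoidHom.range_eq_map]
  exact map_le_normalizer_map j fun g _ => mnor (h g)

theorem elem_map (j : C →* G) {A : Subgroup C} (h1 : ∀ a ∈ A, ∀ b ∈ A, a * b = b * a)
    (h2 : ∀ a ∈ A, a * a = 1) : IsElementaryAbelian 2 (A.map j) := ⟨⟨⟨by
  rintro ⟨_, c, hc, rfl⟩ ⟨_, d, hd, rfl⟩
  exact Subtype.ext (by simp only [coe_mul, ← map_mul, h1 c hc d hd])⟩⟩, by
  rintro _ ⟨c, hc, rfl⟩
  rw [sq, ← map_mul, h2 c hc, map_one]⟩

structure SJ (j : C →* G) : Prop where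
  inj : Function.Injective j
  syl : IsSylowOf 2 j.range ⊤

namespace SJ

variable {j : C →* G} (h : SJ j)
include h

theorem comm {x y : C} : j x ∈ Cen1 (j y) ↔ x * y = y * x := by
  rw [c1, ← map_mul, ← map_mul, h.inj.eq_iff]

theorem ne1 {x : C} (h2 : x ≠ 1) : j x ≠ 1 := fun e => h2 (h.inj (e.trans (map_one j).symm))

theorem ord {x : C} (h1 : x * x = 1) (h2 : x ≠ 1) : orderOf (j x) = 2 :=
  o2 (by rw [← map_mul, h1, map_one]) (h.ne1 h2)

theorem of_ord {s : C} (o : orderOf (j s) = 2) : s * s = 1 ∧ s ≠ 1 :=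
  ⟨h.inj (by rw [map_mul, map_one, ii o]), fun e => ine o (by rw [e, map_one])⟩

theorem sq_of {a : G} (ha : orderOf a = 2) {s : C} (e : IsConj a (j s)) : s * s = 1 ∧ s ≠ 1 := by
  obtain ⟨g, e⟩ := isConj_iff.1 e
  exact h.of_ord (e ▸ iconj ha g)

theorem card_cen (s : C) : Nat.card ↥(j.range ⊓ Cen1 (j s)) = cc s :=
  card_img h.inj _ fun g => ⟨by rintro ⟨⟨x, rfl⟩, e⟩; exact ⟨x, h.comm.1 e, rfl⟩,
    by rintro ⟨x, e, rfl⟩; exact ⟨⟨x, rfl⟩, h.comm.2 e⟩⟩

theorem card_map (p : C → Bool) (hp) :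
    Nat.card ((sub p hp).map j) = (Finset.univ.filter fun c => p c = true).card :=
  card_img h.inj _ fun g => Iff.rfl

theorem card_S : Nat.card j.range = Fintype.card C := by
  rw [← Nat.card_eq_fintype_card]
  exact (Nat.card_congr (MonoidHom.ofInjective h.inj).toEquiv).symm

theorem mem_map {A : Subgroup C} {x : C} : j x ∈ A.map j ↔ x ∈ A := mem_map_iff_mem h.inj

theorem sylC {s : C} (hs : ∀ s', IsConj (j s) (j s') → cc s' ≤ cc s) :
    IsSylowOf 2 (j.range ⊓ Cen1 (j s)) (⊤ ⊓ Cen1 (j s)) := by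
  obtain ⟨R, hR, hle⟩ := exists_isSylowOf_ge (h.syl.isPGroup.to_le inf_le_left)
    (inf_le_inf_right (Cen1 (j s)) le_top)
  refine hR.of_card_le (h.syl.isPGroup.to_le inf_le_left) (inf_le_inf_right _ le_top) ?_
  obtain ⟨k, -, e⟩ := h.syl.exists_conj_le hR.isPGroup le_top
  obtain ⟨s', e'⟩ := e (conj_mem_conjS (hle ⟨⟨s, rfl⟩, c1.2 rfl⟩))
  rw [h.card_cen, ← card_conjS k R]
  refine le_trans ?_ (hs s' (e' ▸ isConj_mk k _))
  rw [← h.card_cen, e', ← conj_c1]
  exact card_le_of_le (le_inf e (conjS_mono k (hR.le.trans inf_le_right)))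

theorem conj_in {x : G} (hx : x * x = 1) : ∃ s, IsConj x (j s) := by
  obtain ⟨g, -, s, e⟩ := conj_in2 h.syl (mem_top x) hx
  exact ⟨s, e ▸ isConj_mk g x⟩

theorem comm_iff {n : G} {a b a' b' : C} (e : j a = n * j a' * n⁻¹)
    (e' : j b = n * j b' * n⁻¹) : a * b = b * a ↔ a' * b' = b' * a' := by
  rw [← h.inj.eq_iff, ← h.inj.eq_iff, map_mul, map_mul, map_mul, map_mul, e, e', conj_mul, conj_mul,
    mul_left_inj, mul_right_inj]

theorem conj (g : G) : SJ ((MulAut.conj g).toMonoidHom.comp j) :=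
  ⟨(MulAut.conj g).injective.comp h.inj, by
    rw [MonoidHom.range_comp]; exact h.syl.map_conj (le_normalizer (mem_top g))⟩

theorem aut (e : C →* C) (he : Function.Bijective e) : SJ (j.comp e) :=
  ⟨h.inj.comp he.1, by
    rw [MonoidHom.range_comp, MonoidHom.range_eq_top.2 he.2, ← MonoidHom.range_eq_map]
    exact h.syl⟩

end SJ

/-- the embedding in a section -/
def jq {j : C →* G} {L : Subgroup G} (hL : j.range ≤ L) {X : Type*} [Group X] (f : L →* X) :
    C →* X := f.comp (j.codRestrict L fun x => hL ⟨x, rfl⟩)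

section Quot

variable {j : C →* G} {L N : Subgroup G} (hL : j.range ≤ L) {X : Type*} [Group X] [Finite X]
  {f : L →* X}

theorem jq_apply (x : C) : jq hL f x = f ⟨j x, hL ⟨x, rfl⟩⟩ := rfl

theorem jq_map (A : Subgroup C) : A.map (jq hL f) = im f (A.map j) := by
  ext y
  exact ⟨by rintro ⟨x, hx, rfl⟩; exact ⟨_, ⟨x, hx, rfl⟩, rfl⟩,
    by rintro ⟨⟨_, _⟩, ⟨x, hx, rfl⟩, rfl⟩; exact ⟨x, hx, rfl⟩⟩

theorem SJ.quot (h : SJ j) (hf : Function.Surjective f) (hk : f.ker = N.subgroupOf L)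
    (hN : Odd (Nat.card N)) : SJ (jq hL f) := by
  refine ⟨(injective_iff_map_eq_one _).2 fun x hx => h.inj ?_, ?_⟩
  · rw [map_one]
    exact H9.eq_one_of_odd_of_mem h.syl.isPGroup ⟨x, rfl⟩
      (odd_ord hN ((map_eq_one_iff_of_ker hk).1 hx))
  · rw [MonoidHom.range_eq_map, jq_map, ← MonoidHom.range_eq_map, ← im_self hf]
    exact (h.syl.of_le hL le_top).im le_rfl

theorem jq_conj {x y : C} (e : Cj L (j x) (j y)) : IsConj (jq hL f x) (jq hL f y) := by
  obtain ⟨g, hg, e⟩ := e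
  refine isConj_iff.2 ⟨f ⟨g, hg⟩, ?_⟩
  rw [jq_apply, jq_apply, ← map_inv, ← map_mul, ← map_mul]
  exact congrArg f (Subtype.ext e)

theorem SJ.lift (h : SJ j) (hf : Function.Surjective f) (hk : f.ker = N.subgroupOf L)
    (hN : Odd (Nat.card N)) {x y : C} (hx : x * x = 1) (e : IsConj (jq hL f x) (jq hL f y)) :
    Cj L (j x) (j y) := by
  have q := h.quot hL hf hk hN
  by_cases x1 : x = 1
  · rw [x1, map_one, isConj_one_right, ← map_one (jq hL f)] at e
    rw [x1, q.inj e]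
    exact MT.Cj.refl _ _
  · obtain ⟨y2, y1⟩ := q.sq_of (q.ord hx x1) e
    exact MT.lift_cj hf hk hN (h.ord hx x1) (h.ord y2 y1) e

end Quot

theorem exists_SJ {Y : Type*} [Group Y] [Finite Y] {i : C →* Y} (hi : Function.Injective i)
    {n m : ℕ} (h1 : Fintype.card C = 2 ^ n) (h2 : Nat.card Y = 2 ^ n * m) (hm : ¬ 2 ∣ m)
    (S : Sylow 2 G) (P : Sylow 2 Y) (e : (S : Subgroup G) ≃* (P : Subgroup Y)) :
    ∃ j : C →* G, SJ j := by
  have c : Nat.card i.range = 2 ^ n := by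
    rw [← h1, ← Nat.card_eq_fintype_card]
    exact (Nat.card_congr (MonoidHom.ofInjective hi).toEquiv).symm
  have hs : IsSylowOf 2 i.range ⊤ := ⟨le_top, IsPGroup.of_card c, by
    have := card_mul_index i.range
    rw [c, h2] at this
    rwa [relIndex_top_right, Nat.eq_of_mul_eq_mul_left (Nat.two_pow_pos n) this]⟩
  obtain ⟨k, -, ek⟩ := hs.exists_conj (isSylowOf_top P)
  have φ : C ≃* (S : Subgroup G) := (((MonoidHom.ofInjective hi).trans (conjSEquiv k _)).trans
    (MulEquiv.subgroupCongr ek)).trans e.symm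
  refine ⟨(S : Subgroup G).subtype.comp φ.toMonoidHom, (S : Subgroup G).subtype_injective.comp
    φ.injective, ?_⟩
  rw [MonoidHom.range_comp, MonoidHom.range_eq_top.2 φ.surjective, ← MonoidHom.range_eq_map,
    range_subtype]
  exact isSylowOf_top S

end A8
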