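import Cfsg.Agent.A8.Z

/-! Groups of type `A₈` with a strongly closed elementary subgroup of order 16. -/

set_option autoImplicit false
set_option linter.unusedVariables false
set_option linter.unusedSectionVars false

namespace A8

open Cfsg Subgroup FT H4 H5 GW
open MT (Cj o2 isConj_mk cj_top cj_mk ext0 zstar_in)

universe u

variable {G : Type u} [Group G] [Finite G]

structure Hy (j : S0 →* G) : Prop extends SJ j where
  sc : ∀ x y, inA x = true → IsConj (j x) (j y) → inA y = true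
  zc : ∀ x, inA x = true → (IsConj (j z0) (j x) ↔ isZ x = true)
  aa : ∀ x, inA x = true → x ≠ 1 → isZ x = false → IsConj (j a0) (j x)
  t12 : IsConj (j t1) (j t2)
  t13 : IsConj (j t1) (j (t1 * t2))

theorem SJ.SH {j : S0 →* G} (h : SJ j) : j.range ≤ Cen1 (j z0) := by
  rintro _ ⟨x, rfl⟩; exact h.comm.2 (A8.zc x)

theorem solv_conj {x y : G} (e : IsConj x y) (h : Group.IsSolvable (Cen1 x)) :
    Group.IsSolvable (Cen1 y) := by
  obtain ⟨g, rfl⟩ := isConj_iff.1 e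
  rw [← conj_c1]
  exact isSolvable_map _ h

namespace Hy

variable {j : S0 →* G} (h : Hy j)
include h

theorem sylT {s : S0} (h1 : s * s = 1) (h2 : inA s = false) :
    IsSylowOf 2 (j.range ⊓ Cen1 (j s)) (⊤ ⊓ Cen1 (j s)) := h.sylC fun s' e => by
  have s1 : s ≠ 1 := fun e => by rw [e] at h2; exact absurd h2 (by decide)
  rw [cc_out s h1 h2, cc_out s' (h.sq_of (h.ord h1 s1) e).1
    (by by_contra e'; simp [h.sc s' s (by simpa using e') e.symm] at h2)]

theorem zfix {s x : S0} (h2 : inA s = false) (e : IsConj (j z0) (j x)) (c : x * s = s * x) :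
    x = z0 :=
  (by decide +kernel : ∀ s x, inA s = false → isZ x = true → x * s = s * x → x = z0) s x h2
    ((h.zc x (h.sc _ _ rfl e)).1 e) c

theorem cjH {s : S0} (h1 : s * s = 1) (h2 : inA s = false) (e : IsConj (j t1) (j s)) :
    Cj (Cen1 (j z0)) (j t1) (j s) := by
  obtain ⟨g, -, e1, e2⟩ := ext0 (h.sylT h1 h2) (h.syl.isPGroup.to_le inf_le_left)
    (inf_le_inf_right _ le_top) (cj_top.2 e)
  obtain ⟨⟨x, e3⟩, e4⟩ := e2 _ ⟨⟨z0, rfl⟩, h.comm.2 (A8.zc t1).symm⟩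
  rw [← e3] at e4
  exact ⟨g, c1'.2 (by rw [← e3, h.zfix h2 (e3 ▸ isConj_mk g _) (h.comm.1 e4)]), e1⟩

theorem locZ : Cen1 (j z0) ≤ Nor (A0.map j ⊔ Uo (j z0)) ∧ Group.IsSolvable (Cen1 (j z0)) := by
  obtain ⟨X, _, _, f, hf, hk⟩ := exists_hom_ker_eq (nUo (j z0))
  have hN := odd_Oo (Cen1 (j z0))
  have c : HZ (jq h.SH f) := ⟨h.toSJ.quot h.SH hf hk hN, fun y => by
    obtain ⟨g, rfl⟩ := hf y
    rw [jq_apply, ← map_mul, ← map_mul]
    exact congrArg f (Subtype.ext (c1.1 g.2)),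
    fun x y hx e => h.sc x y hx (h.toSJ.lift h.SH hf hk hN (A_sq x hx) e).isConj, fun x y hx e => by
      have xA := (by decide +kernel : ∀ b, inB b = true → inA b = true) x hx
      obtain ⟨g, hg, e⟩ := h.toSJ.lift h.SH hf hk hN (A_sq x xA) e
      have e' : g * j (x * z0) * g⁻¹ = j (y * z0) := by
        rw [map_mul, map_mul, ← e, ← conj_mul, c1'.1 hg]
      have yA := h.sc x y xA (e ▸ isConj_mk g _)
      have k := h.zc x xA
      have k' := h.zc (x * z0) (A0.mul_mem xA rfl)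
      rw [show IsConj (j z0) (j x) ↔ IsConj (j z0) (j y) from ⟨fun c => c.trans (e ▸ isConj_mk g _),
        fun c => c.trans (e ▸ isConj_mk g _ : IsConj (j x) (j y)).symm⟩, h.zc y yA] at k
      rw [show IsConj (j z0) (j (x * z0)) ↔ IsConj (j z0) (j (y * z0)) from
        ⟨fun c => c.trans (e' ▸ isConj_mk g _), fun c => c.trans (e' ▸ isConj_mk g _ :
          IsConj (j (x * z0)) (j (y * z0))).symm⟩, h.zc _ (A0.mul_mem yA rfl)] at k'
      rcases (by decide +kernel : ∀ x y, inB x = true → inA y = true →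
        (isZ y = true ↔ isZ x = true) → (isZ (y * z0) = true ↔ isZ (x * z0) = true) →
        inB y = true ∨ x = 1 ∨ x = z0) x y hx yA k k' with e1 | rfl | rfl
      · exact e1
      · rw [← h.inj (a₁ := 1) (a₂ := y) (by simpa using e)]; rfl
      · rw [← h.inj ((c1'.1 hg).symm.trans e)]; rfl,
    jq_conj _ (h.cjH (by decide) rfl h.t12), jq_conj _ (h.cjH (by decide) rfl h.t13)⟩
  have hO : pPrimeCore 2 X = ⊥ := by
    rw [← pPrimeCoreIn_top, ← im_self hf]; exact pPrimeCoreIn_im_eq_bot hf hk le_rfl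
  obtain ⟨k1, k2⟩ := c.main hO
  refine ⟨?_, isSolvable_of_im hk le_rfl inferInstance
    (H5.isSolvable_of_le inf_le_right (odd_solv hN))⟩
  rw [← pre_im hk (Uo_le _) ((mapS j A0).trans h.SH), ← jq_map h.SH]
  exact le_normalizer_pre le_rfl (le_top.trans k1)

theorem AC {x : S0} (hx : inA x = true) : A0.map j ≤ Cen1 (j x) := by
  rintro _ ⟨a, ha, rfl⟩; exact h.comm.2 (A_comm a ha x hx)

theorem norA {g : G} (hg : ∀ c ∈ A0.map j, g * c * g⁻¹ ∈ j.range) : g ∈ Nor (A0.map j) :=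
  mnor (by
    rintro _ ⟨c, hc, rfl⟩
    obtain ⟨c', e⟩ := hg _ ⟨c, hc, rfl⟩
    exact ⟨c', h.sc c c' hc (e ▸ isConj_mk g _), e⟩)

theorem fusN {x y : S0} (hx : inA x = true) (e : IsConj (j x) (j y))
    (hy : IsSylowOf 2 (j.range ⊓ Cen1 (j y)) (⊤ ⊓ Cen1 (j y))) :
    Cj (Nor (A0.map j)) (j x) (j y) := by
  obtain ⟨g, -, e1, e2⟩ := ext0 hy (H5.isPGroup_of_elem (elemA j)) (le_inf le_top (h.AC hx))
    (cj_top.2 e)
  exact ⟨g, h.norA fun c hc => (e2 c hc).1, e1⟩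

theorem sylZ : IsSylowOf 2 (j.range ⊓ Cen1 (j z0)) (⊤ ⊓ Cen1 (j z0)) :=
  h.sylC fun s _ => (by decide +kernel : ∀ s, cc s ≤ cc z0) s

theorem sylA : IsSylowOf 2 (j.range ⊓ Cen1 (j a0)) (⊤ ⊓ Cen1 (j a0)) :=
  h.sylC fun s e => by
    rcases (by decide +kernel : ∀ s, cc s ≤ cc a0 ∨ s = 1 ∨ s = z0) s with e' | rfl | rfl
    · exact e'
    · exact absurd rfl (h.sq_of (h.ord (by decide) (by decide)) e).2
    · exact absurd ((h.zc a0 rfl).1 e.symm) (by decide)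

theorem locA : ∃ K, A0.map j ≤ K ∧ ⁅Cen1 (j a0), Cen1 (j a0)⁆ ≤ K ∧ K ≤ Cen1 (j a0) ∧
    IsSylowOf 2 (A0.map j) K ∧ K ≤ (K ⊓ Cen1 (j e0)) ⊔ Oo K := by
  have sy := h.sylA
  rw [top_inf_eq] at sy
  have hA := h.AC (x := a0) rfl
  have hf := focal_le (K := A0.map j) sy (by
    rintro _ ⟨⟨x, rfl⟩, hx⟩ u hu ⟨⟨y, e⟩, hy⟩
    rw [← e] at hy ⊢
    rw [← map_inv, ← map_mul]
    refine ⟨_, (by decide +kernel : ∀ x y, x * a0 = a0 * x → y * a0 = a0 * y →
      (inA x = true ↔ inA y = true) → inA (x⁻¹ * y) = true) x y (h.comm.1 hx) (h.comm.1 hy)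
      ⟨fun k => h.sc x y k (e ▸ isConj_mk u _),
        fun k => h.sc y x k (e ▸ isConj_mk u _ : IsConj (j x) (j y)).symm⟩, rfl⟩)
  set D := ⁅Cen1 (j a0), Cen1 (j a0)⁆
  have hD : D ≤ Cen1 (j a0) := commutator_le_self _
  have nD : Cen1 (j a0) ≤ Nor D := ncom le_normalizer le_normalizer
  have hK : D ⊔ A0.map j ≤ Cen1 (j a0) := sup_le hD hA
  have sA : IsSylowOf 2 (A0.map j) (D ⊔ A0.map j) := by
    have s1 := sy.inf_of_le_normalizer hK (sy.le.trans (le_normalizer_iff_commutator_le_right.2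
      ((commutator_mono le_rfl hK).trans le_sup_left)))
    rwa [show j.range ⊓ Cen1 (j a0) ⊓ (D ⊔ A0.map j) = A0.map j from le_antisymm (fun x hx => by
      obtain ⟨d, hd, a, ha, rfl⟩ := (H7.mem_sup_of_le_normalizer_left (hA.trans nD)).1 hx.2
      exact mul_mem (hf ⟨(mul_mem_cancel_right (le_inf (mapS j _) hA ha)).1 hx.1, hd⟩) ha)
      (le_inf (le_inf (mapS j _) hA) le_sup_right)] at s1
  have sE := sA.of_le (le_inf le_sup_right (h.AC (x := e0) rfl)) inf_le_left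
  refine ⟨_, le_sup_right, le_sup_left, hK, sA, zstar_in (h.ord (by decide) (by decide))
    (mem_sup_right ⟨e0, rfl, rfl⟩) sE ?_⟩
  rintro _ ⟨x, hx, rfl⟩ e
  obtain ⟨n, n1, n2, n3⟩ := ext0 sE (H5.isPGroup_of_elem (elemA j))
    (le_inf le_sup_right (h.AC hx)) e.symm
  obtain ⟨s, hs, y, hy, ho, e'⟩ := odd_part sA (inv_mem n1) (inv_mem (mnor n3))
  have y1 := hK (zpowers_le.2 (inv_mem n1) hy)
  have y2 : y * j e0 * y⁻¹ = j x := by
    calc _ = s⁻¹ * (s * y * j e0 * (s * y)⁻¹) * s := by group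
      _ = s⁻¹ * j x * s⁻¹⁻¹ := by rw [← e', ← n2]; group
      _ = j x := c1'.1 (inv_mem (h.AC hx hs))
  have z1 : IsConj (j z0) (j x) := ((h.zc e0 rfl).2 rfl).trans e.isConj
  obtain ⟨x', x1, x2⟩ := cmem (zpowers_le.2 (inv_mem (mnor n3)) hy) ⟨e0 * a0, rfl, rfl⟩
  have z2 : IsConj (j z0) (j x') := ((h.zc _ rfl).2 rfl).trans (x2 ▸ isConj_mk y _)
  rcases (by decide +kernel : ∀ x x', isZ x = true → isZ x' = true → x' = x * a0 →
    x = e0 ∨ x = e0 * a0) x x' ((h.zc x hx).1 z1) ((h.zc x' x1).1 z2)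
    (h.inj (by rw [x2, map_mul, map_mul, ← y2, ← conj_mul, c1'.1 y1])) with rfl | rfl
  · rfl
  · exact absurd (fix_of_odd ho (k := 1) (by rw [pow_one, sq, ← map_mul]; exact map_one j)
      (c1.1 y1) (y2.trans (map_mul j _ _))) (h.ne1 (by decide))

theorem locT {s : S0} (h1 : s * s = 1) (h2 : inA s = false) :
    Cen1 (j s) ≤ (Cen1 (j s) ⊓ Cen1 (j z0)) ⊔ Uo (j s) := by
  have sy := h.sylT h1 h2
  rw [top_inf_eq] at sy
  refine zstar_in h.oz (h.comm.2 (A8.zc s).symm)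
    (sy.of_le (le_inf inf_le_right (inf_le_left.trans h.SH)) inf_le_left) ?_
  rintro _ ⟨⟨x, rfl⟩, hx⟩ e
  rw [h.zfix h2 e.isConj (h.comm.1 hx)]

theorem solv {s : S0} (h1 : s * s = 1) (s1 : s ≠ 1) : Group.IsSolvable (Cen1 (j s)) := by
  have k : ∀ {K L : Subgroup G}, K ≤ (K ⊓ L) ⊔ Oo K → Group.IsSolvable L → Group.IsSolvable K :=
    fun {K L} e e' => H5.isSolvable_of_le (e.trans (sup_comm _ _).le) (H5.isSolvable_sup
      (inf_le_left.trans (lOo K)) (odd_solv (odd_Oo K)) (H5.isSolvable_of_le inf_le_right e'))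
  by_cases h2 : inA s = true
  · by_cases h3 : isZ s = true
    · exact solv_conj ((h.zc s h2).2 h3) h.locZ.2
    · obtain ⟨K, -, k1, -, -, k2⟩ := h.locA
      exact solv_conj (h.aa s h2 s1 (by simpa using h3)) (solv_of_der (H5.isSolvable_of_le k1
        (k k2 (solv_conj ((h.zc e0 rfl).2 rfl) h.locZ.2))))
  · exact k (h.locT h1 (by simpa using h2)) h.locZ.2

theorem main (hO : oddCore G = ⊥) : ⊤ ≤ Nor (A0.map j) := by
  have U : ∀ {t : G}, orderOf t = 2 → Uo t = ⊥ := W.core_bot h.syl hO (by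
    rintro _ ⟨s, rfl⟩ o
    obtain ⟨s2, s1⟩ := h.of_ord o
    refine ⟨h.solv s2 s1, ?_⟩
    by_cases h2 : inA s = true
    · exact ⟨_, h.AC h2, elemA j, by rw [h.card_A]; norm_num⟩
    obtain ⟨u, u1, u2, u3⟩ := (by decide +kernel : ∀ s, ¬ inA s = true → s * s = 1 → ∃ u,
      inA u = true ∧ inZ u = false ∧ u * s = s * u) s h2 s2
    have ne : ∀ {x y : S0}, x ≠ y → j x ≠ j y := fun e e' => e (h.inj e')
    have nA : ∀ {x : S0}, inA x = true → j s ≠ j x := fun e => ne fun e' => h2 (e' ▸ e)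
    exact ⟨_, Dich.r3_of_three (ii h.oz) (by rw [← map_mul, A_sq u u1, map_one]) (ii o)
      (c1.1 (h.comm.2 (A8.zc u).symm)) (c1.1 (h.comm.2 (A8.zc s).symm)) (c1.1 (h.comm.2 u3))
      (ine h.oz) (h.ne1 fun e => by simp [e, inZ] at u2) (ne fun e => by simp [← e, inZ] at u2)
      (ine o) (nA rfl) (nA u1) (map_mul j _ _ ▸ nA (A0.mul_mem rfl u1))
      (h.comm.2 (A8.zc s).symm) (h.comm.2 u3) (c1.2 rfl)⟩)
  have cz : Cen1 (j z0) ≤ Nor (A0.map j) := by simpa only [U h.oz, sup_bot_eq] using h.locZ.1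
  have cN : ∀ {x y : G}, Cj (Nor (A0.map j)) x y → Cen1 y ≤ Nor (A0.map j) →
      Cen1 x ≤ Nor (A0.map j) := by
    rintro x _ ⟨g, hg, rfl⟩ e c hc
    rw [← conj_c1] at e
    exact mem_of_eq (mul_mem (mul_mem (inv_mem hg) (e (conj_mem_conjS hc))) hg) (by group)
  have cZ : ∀ x, inA x = true → isZ x = true → Cen1 (j x) ≤ Nor (A0.map j) := fun x hx e =>
    cN (h.fusN hx ((h.zc x hx).2 e).symm h.sylZ) cz
  have ca : Cen1 (j a0) ≤ Nor (A0.map j) := by
    obtain ⟨K, k0, k1, k2, k3, k4⟩ := h.locA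
    have n : Cen1 (j a0) ≤ Nor K := le_normalizer_iff_commutator_le_right.2
      ((commutator_mono le_rfl k2).trans k1)
    have e : Oo K ≤ ⊥ := U (h.ord (x := a0) (by decide) (by decide)) ▸
      le_Oo ((pPrimeCoreIn_le _ _).trans k2) (n.trans (nOo K)) (odd_Oo K)
    rw [← k3.sup_normalizer k2 n]
    exact sup_le (k4.trans (sup_le (inf_le_right.trans (cZ e0 rfl rfl)) (e.trans bot_le)))
      inf_le_right
  by_contra hM
  obtain ⟨g, -, e⟩ := BS.oc_top_of_se (W.se_crit h.syl (fun e => ine h.oz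
    (mem_bot.1 (e ▸ ⟨z0, rfl⟩))) (fun e => hM e.ge)
    (fun g hg => h.norA fun c hc => cmem hg (mapS j _ hc)) (by
      rintro _ ⟨s, rfl⟩ o
      obtain ⟨s2, s1⟩ := h.of_ord o
      by_cases h2 : inA s = true
      · by_cases h3 : isZ s = true
        · exact cZ s h2 h3
        · exact cN (h.fusN h2 (h.aa s h2 s1 (by simpa using h3)).symm h.sylA) ca
      · refine (h.locT s2 (by simpa using h2)).trans ?_
        rw [U o, sup_bot_eq]
        exact inf_le_right.trans cz)) (j z0) (mem_top _) (j t1) (mem_top _)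
    ⟨ine h.oz, ii h.oz⟩ ⟨h.ne1 (by decide), by rw [← map_mul]; exact map_one j⟩
  exact absurd (h.sc z0 t1 rfl (isConj_iff.2 ⟨g, e⟩)) (by decide)

theorem normal : (A0.map j ⊔ oddCore G).Normal := by
  obtain ⟨X, _, _, f, hf, hk⟩ := exists_hom_ker_eq (lOo (⊤ : Subgroup G))
  have hN := odd_Oo (⊤ : Subgroup G)
  have c : Hy (jq le_top f) := ⟨h.toSJ.quot le_top hf hk hN,
    fun x y hx e => h.sc x y hx (h.toSJ.lift le_top hf hk hN (A_sq x hx) e).isConj,
    fun x hx => Iff.trans ⟨fun e => (h.toSJ.lift le_top hf hk hN (by decide) e).isConj,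
      fun e => jq_conj _ (cj_top.2 e)⟩ (h.zc x hx),
    fun x hx x1 e => jq_conj _ (cj_top.2 (h.aa x hx x1 e)), jq_conj _ (cj_top.2 h.t12),
    jq_conj _ (cj_top.2 h.t13)⟩
  have hO : pPrimeCore 2 X = ⊥ := by
    rw [← pPrimeCoreIn_top, ← im_self hf]; exact pPrimeCoreIn_im_eq_bot hf hk le_rfl
  refine normal_of_top_le_normalizer ?_
  rw [show oddCore G = Oo ⊤ from (pPrimeCoreIn_top 2).symm, ← pre_im hk le_top le_top,
    ← jq_map le_top]
  exact le_normalizer_pre le_rfl (le_top.trans (c.main hO))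

end Hy

end A8
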