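import Cfsg.Agent.A8.M
import Cfsg.Agent.JK.A5
import Cfsg.Agent.H5.SS8

/-! The fusion pattern forced by the normalizer `2⁴ : A₅`. -/

set_option autoImplicit false
set_option linter.unusedVariables false
set_option linter.unusedSectionVars false

namespace A8

open Cfsg Subgroup FT H4 H5 GW
open MT (Cj o2 isConj_mk cj_top cj_mk ext0 card_cj card_img card_img_le)

universe u

variable {G : Type u} [Group G] [Finite G]

theorem SJ.uniq {j : S0 →* G} (h : SJ j) {B : Subgroup G} (h1 : B ≤ j.range)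
    (h2 : IsElementaryAbelian 2 B) (h3 : Nat.card B = 16) : B = A0.map j := by
  refine H6.eq_of_le_of_card_le (fun x hx => ?_) (by rw [h3, h.card_A])
  obtain ⟨s, rfl⟩ := h1 hx
  refine ⟨s, ?_, rfl⟩
  by_contra hs
  have sq : ∀ c, j c ∈ B → c * c = 1 := fun c hc =>
    h.inj (by rw [map_mul, map_one, Dich.mul_self_of_elem h2 hc])
  have c1' := card_img_le h.inj (fun c => c * s = s * c ∧ c * c = 1) (A := (· ∈ B)) fun x hx' => by
    obtain ⟨c, rfl⟩ := h1 hx'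
    exact ⟨c, ⟨h.comm.1 (c1.2 (congrArg Subtype.val (h2.1.1.1 ⟨_, hx'⟩ ⟨_, hx⟩))), sq c hx'⟩, rfl⟩
  have c2 := (by decide +kernel : ∀ s : S0, s * s = 1 → ¬ inA s = true →
    (Finset.univ.filter fun c => c * s = s * c ∧ c * c = 1).card < 16) s (sq s hx) hs
  change Nat.card B ≤ _ at c1'
  omega

theorem SJ.wc {j : S0 →* G} (h : SJ j) {g : G} (hg : ∀ c ∈ A0.map j, g * c * g⁻¹ ∈ j.range) :
    g ∈ Nor (A0.map j) :=
  mem_normalizer_iff_conjS.2 (h.uniq (fun x hx => mem_of_eq (hg _ (mem_conjS.1 hx)) (by group))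
    (Dich.elem_conjS (elemA j) g) (by rw [card_conjS, h.card_A]))

structure NH (j : S0 →* G) : Prop extends SJ j where
  inv : ∀ s s', s * s = 1 → s' * s' = 1 → inA s = false → inA s' = false →
    Cj (Nor (A0.map j)) (j s) (j s')
  orb : ∀ a ∈ A0.map j, a ≠ 1 → 5 ∣ Nat.card {x // Cj (Nor (A0.map j)) a x} ∧
    Nat.card {x // Cj (Nor (A0.map j)) a x} ∣ 60
  cl3 : ∀ u v : G, ¬ ∀ x, orderOf x = 2 → IsConj u x ∨ IsConj v x

theorem cj_memA {A : Subgroup G} {a x : G} (ha : a ∈ A) (a1 : a ≠ 1) (e : Cj (Nor A) a x) :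
    x ∈ A ∧ x ≠ 1 := by
  obtain ⟨g, hg, rfl⟩ := e
  exact ⟨cmem hg ha, by simpa using a1⟩

theorem rel_cj (L : Subgroup G) (a : G) : (L ⊓ Cen1 a).relIndex L = Nat.card {x // Cj L a x} :=
  Nat.eq_of_mul_eq_mul_left Nat.card_pos (by
    rw [H5.card_mul_relIndex inf_le_left, mul_comm, card_cj])

namespace NH

variable {j : S0 →* G} (h : NH j)
include h

theorem SN : j.range ≤ Nor (A0.map j) := norS j A_nor

theorem card15 : Nat.card {x // x ∈ A0.map j ∧ x ≠ 1} = 15 := by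
  have := H9.card_subtype_mem_ne_one (A0.map j)
  rw [h.card_A] at this
  omega

theorem two {u v : G} (hA : ∀ x ∈ A0.map j, x ≠ 1 → IsConj u x ∨ IsConj v x)
    (ht : IsConj u (j t1) ∨ IsConj v (j t1)) : False := h.cl3 u v fun x o => by
  obtain ⟨s, e⟩ := h.conj_in (ii o)
  obtain ⟨s2, s1⟩ := h.sq_of o e
  by_cases hs : inA s = true
  · exact (hA _ ⟨s, hs, rfl⟩ (h.ne1 s1)).imp (·.trans e.symm) (·.trans e.symm)
  · have := ((h.inv t1 s (by decide) s2 rfl (by simpa using hs)).isConj).trans e.symm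
    exact ht.imp (·.trans this) (·.trans this)

theorem card5 : Nat.card {x // Cj (Nor (A0.map j)) (j z0) x} = 5 := by
  obtain ⟨h1, h2⟩ := h.orb _ ⟨z0, rfl, rfl⟩ (ine h.oz)
  have h3 : ¬ 2 ∣ Nat.card {x // Cj (Nor (A0.map j)) (j z0) x} := fun e =>
    (h.syl.of_le h.SN le_top).not_dvd (by
      rw [← relIndex_mul_relIndex _ _ _ (le_inf h.SN h.SH) inf_le_left, rel_cj]
      exact e.mul_left _)
  have h4 : Nat.card {x // Cj (Nor (A0.map j)) (j z0) x} ≠ 15 := fun e =>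
    h.two (u := j z0) (v := j t1) (fun x hx x1 => Or.inl (H9.imp_of_card_le
      (A := Cj (Nor (A0.map j)) (j z0)) (B := fun x => x ∈ A0.map j ∧ x ≠ 1)
      (fun x => cj_memA ⟨z0, rfl, rfl⟩ (ine h.oz)) (by rw [e, h.card15]) x ⟨hx, x1⟩).isConj)
      (Or.inr (IsConj.refl _))
  have h5 := Nat.le_of_dvd (by norm_num) h2
  generalize Nat.card {x // Cj (Nor (A0.map j)) (j z0) x} = n at *
  interval_cases n <;> simp_all

theorem fz {x : G} (hx : x ∈ A0.map j) (e : IsConj (j z0) x) : Cj (Nor (A0.map j)) (j z0) x := by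
  obtain ⟨g, -, e1, e2⟩ := ext0 (h.sylC fun s _ => (by decide +kernel : ∀ s, cc s ≤ cc z0) s)
    (H5.isPGroup_of_elem (elemA j)) (le_inf le_top fun a ha =>
      c1.2 (congrArg Subtype.val ((elemA j).1.1.1 ⟨_, ha⟩ ⟨_, hx⟩))) (cj_top.2 e.symm)
  exact MT.Cj.symm ⟨g, h.wc fun c hc => (e2 c hc).1, e1⟩

theorem rest {a x : G} (ha : a ∈ A0.map j) (a1 : a ≠ 1) (a2 : ¬ IsConj (j z0) a)
    (hx : x ∈ A0.map j) (x1 : x ≠ 1) (x2 : ¬ IsConj (j z0) x) : IsConj a x := by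
  obtain ⟨h1, h2⟩ := h.orb _ ha a1
  have h3 := H9.card_subtype_split (fun x => x ∈ A0.map j ∧ x ≠ 1) (IsConj (j z0))
  rw [h.card15, H9.card_subtype_congr (B := Cj (Nor (A0.map j)) (j z0)) (fun x => ⟨fun e =>
    h.fz e.1.1 e.2, fun e => ⟨cj_memA ⟨z0, rfl, rfl⟩ (ine h.oz) e, e.isConj⟩⟩), h.card5] at h3
  have h4 : ∀ x, Cj (Nor (A0.map j)) a x → (x ∈ A0.map j ∧ x ≠ 1) ∧ ¬ IsConj (j z0) x :=
    fun x e => ⟨cj_memA ha a1 e, fun e' => a2 (e'.trans e.isConj.symm)⟩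
  have h5 := H9.card_subtype_le_of_imp h4
  have h6 : Nat.card {x // Cj (Nor (A0.map j)) a x} ≠ 5 := fun e => by
    obtain ⟨R, hR⟩ := exists_isSylowOf 2 (Nor (A0.map j) ⊓ Cen1 a)
    have hR' : IsSylowOf 2 R (Nor (A0.map j)) := ⟨hR.le.trans inf_le_left, hR.isPGroup, by
      rw [← relIndex_mul_relIndex _ _ _ hR.le inf_le_left, rel_cj, e]
      have := hR.not_dvd
      omega⟩
    obtain ⟨k, hk, e'⟩ := hR'.exists_conj (h.syl.of_le h.SN le_top)
    obtain ⟨s, -, es⟩ := cmem hk ha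
    have h7 : j.range ≤ Cen1 (j s) := by
      rw [es, ← conj_c1, ← e']; exact conjS_mono k (hR.le.trans inf_le_right)
    rcases (by decide +kernel : ∀ s : S0, (∀ x, x * s = s * x) → s = 1 ∨ s = z0) s
      (fun x => h.comm.1 (h7 ⟨x, rfl⟩)) with rfl | rfl
    · exact a1 (by simpa using es.symm)
    · exact a2 (es ▸ isConj_mk k a : IsConj a (j z0)).symm
  have h7 : Nat.card {x // Cj (Nor (A0.map j)) a x} ≠ 0 := fun e => by
    rw [e] at h2; omega
  exact (H9.imp_of_card_le h4 (by omega) x ⟨⟨hx, x1⟩, x2⟩).isConj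

theorem nB {x : S0} (hx : inB x = true) (e : IsConj (j z0) (j x)) : x = z0 := by
  have xA := (by decide +kernel : ∀ b, inB b = true → inA b = true) x hx
  have x1 := (h.sq_of h.oz e).2
  by_contra xz
  have key : ∀ x : S0, inB x = true → x ≠ 1 → x ≠ z0 → ∃ w, w * w = 1 ∧ inA w = false ∧
      x * w = w * x ∧ ∀ y, inA y = true → y * w = w * y →
        y = 1 ∨ y = z0 ∨ ∃ g, g * y * g⁻¹ = x := by decide +kernel
  obtain ⟨w, w1, w2, w3, -⟩ := key x hx x1 xz
  have all : ∀ x', (inB x' = true ∧ x' ≠ 1) → Cj (Nor (A0.map j)) (j z0) (j x') := fun x' hx' => by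
    by_cases e' : x' = z0
    · rw [e']; exact MT.Cj.refl _ _
    obtain ⟨w', v1, v2, -, v4⟩ := key x' hx'.1 hx'.2 e'
    obtain ⟨n, n1, n2⟩ := h.inv w w' w1 v1 w2 v2
    have k : ∀ y, inA y = true → y * w = w * y → Cj (Nor (A0.map j)) (j z0) (j y) →
        n * j y * n⁻¹ = j z0 ∨ Cj (Nor (A0.map j)) (j z0) (j x') := fun y y1 y2 y3 => by
      obtain ⟨y', y4, y5⟩ := cmem n1 ⟨y, y1, rfl⟩
      have y6 := y3.trans (y5 ▸ cj_mk n1 _ : Cj _ (j y) (j y'))
      rcases v4 y' y4 ((h.comm_iff y5 n2.symm).2 y2) with rfl | rfl | ⟨g, e⟩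
      · exact absurd rfl (h.sq_of h.oz y6.isConj).2
      · exact Or.inl y5.symm
      · exact Or.inr (y6.trans ((cjS j e).mono h.SN))
    rcases k x xA w3 (h.fz ⟨x, xA, rfl⟩ e) with e1 | e1
    · refine (k z0 rfl (zc w).symm (MT.Cj.refl _ _)).resolve_left fun e2 => xz (h.inj ?_)
      simpa using e1.trans e2.symm
    · exact e1
  have c1 := card_img h.inj (fun c => inB c = true ∧ c ≠ 1)
    (A := fun g => ∃ c, (inB c = true ∧ c ≠ 1) ∧ j c = g) fun _ => Iff.rfl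
  have c2 := H9.card_subtype_le_of_imp (A := fun g => ∃ c, (inB c = true ∧ c ≠ 1) ∧ j c = g)
    (B := Cj (Nor (A0.map j)) (j z0)) (by rintro _ ⟨c, hc, rfl⟩; exact all c hc)
  rw [c1, h.card5,
    (by decide +kernel : (Finset.univ.filter fun c => inB c = true ∧ c ≠ 1).card = 7)] at c2
  omega

theorem hy (he : IsConj (j z0) (j e0)) : Hy j := by
  have c1 := card_img h.inj (fun c => isZ c = true)
    (A := fun g => ∃ c, isZ c = true ∧ j c = g) fun _ => Iff.rfl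
  have k1 : ∀ x, isZ x = true → IsConj (j z0) (j x) := fun x hx => by
    obtain ⟨g, e | e⟩ := (by decide +kernel : ∀ x, isZ x = true → ∃ g, g * z0 * g⁻¹ = x ∨
      g * e0 * g⁻¹ = x) x hx
    exacts [(cjS j e).isConj, he.trans (cjS j e).isConj]
  have k2 : ∀ x, inA x = true → (IsConj (j z0) (j x) ↔ isZ x = true) := fun x hx => ⟨fun e => by
    obtain ⟨c, hc, e'⟩ := H9.imp_of_card_le (A := fun g => ∃ c, isZ c = true ∧ j c = g)
      (B := Cj (Nor (A0.map j)) (j z0)) (by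
        rintro _ ⟨c, hc, rfl⟩
        exact h.fz ⟨c, (by decide +kernel : ∀ c, isZ c = true → inA c = true) c hc, rfl⟩ (k1 c hc))
      (by rw [c1, h.card5]; decide +kernel) _ (h.fz ⟨x, hx, rfl⟩ e)
    exact h.inj e' ▸ hc, k1 x⟩
  have k3 : ∀ x, inA x = true → x ≠ 1 → isZ x = false → IsConj (j a0) (j x) := fun x hx x1 e =>
    h.rest ⟨a0, rfl, rfl⟩ (h.ne1 (by decide)) (fun e => absurd ((k2 a0 rfl).1 e) (by decide))
      ⟨x, hx, rfl⟩ (h.ne1 x1) fun e' => by simp [(k2 x hx).1 e'] at e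
  have k4 : ∀ x ∈ A0.map j, x ≠ 1 → IsConj (j z0) x ∨ IsConj (j a0) x := by
    rintro _ ⟨x, hx, rfl⟩ x1
    by_cases e : isZ x = true
    · exact Or.inl (k1 x e)
    · exact Or.inr (k3 x hx (fun e => x1 (by rw [e, map_one])) (by simpa using e))
  refine ⟨h.toSJ, fun x y hx e => ?_, k2, k3, (h.inv _ _ (by decide) (by decide) rfl rfl).isConj,
    (h.inv _ _ (by decide) (by decide) rfl rfl).isConj⟩
  by_contra hy
  have x1 : x ≠ 1 := fun e' => by
    rw [e', map_one, isConj_one_right, ← map_one j] at e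
    exact hy (h.inj e ▸ rfl)
  have e' := e.trans (h.inv y t1 (h.sq_of (h.ord (A_sq x hx) x1) e).1 (by decide)
    (by simpa using hy) rfl).isConj
  exact h.two k4 ((k4 _ ⟨x, hx, rfl⟩ (h.ne1 x1)).imp (·.trans e') (·.trans e'))

theorem map_om : A0.map (j.comp om) = A0.map j := by
  have k : ∀ x, inA x = true → inA (om x) = true ∧ om (om x) = x := by decide +kernel
  ext y
  exact ⟨by rintro ⟨x, hx, rfl⟩; exact ⟨om x, (k x hx).1, rfl⟩,
    by rintro ⟨x, hx, rfl⟩; exact ⟨om x, (k x hx).1, congrArg j (k x hx).2⟩⟩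

theorem normal : (A0.map j ⊔ oddCore G).Normal := by
  by_cases he : IsConj (j z0) (j e0)
  · exact (h.hy he).normal
  have h' : NH (j.comp om) := ⟨h.toSJ.aut om om_bij, fun s s' e e' k k' => by
    have k0 : ∀ s, s * s = 1 → inA s = false → om s * om s = 1 ∧ inA (om s) = false := by
      decide +kernel
    rw [h.map_om]
    exact h.inv _ _ (k0 s e k).1 (k0 s' e' k').1 (k0 s e k).2 (k0 s' e' k').2,
    by rw [h.map_om]; exact h.orb, h.cl3⟩
  rw [← h.map_om]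
  refine (h'.hy ?_).normal
  by_contra he'
  have c := H9.card_subtype_le_of_imp (A := Cj (Nor (A0.map j)) (j z0)) (B := (· = j z0))
    fun x e => by
      obtain ⟨c, hc, rfl⟩ := (cj_memA (A := A0.map j) ⟨z0, rfl, rfl⟩ (ine h.oz) e).1
      rcases (by decide +kernel : ∀ c, inA c = true → inB c = true ∨ ∃ g, g * c * g⁻¹ = e0 ∨
        g * c * g⁻¹ = om e0) c hc with e' | ⟨g, e' | e'⟩
      · rw [h.nB e' e.isConj]
      · exact absurd (e.isConj.trans (cjS j e').isConj) he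
      · exact absurd (e.isConj.trans (cjS j e').isConj) he'
  rw [h.card5, H9.card_subtype_eq_one] at c
  omega

end NH

theorem SJ.nh {j : S0 →* G} (h : SJ j) {f : Nor (A0.map j) →* alternatingGroup (Fin 5)}
    (hf : Function.Surjective f)
    (hk : f.ker = (A0.map j ⊔ Oo (Nor (A0.map j))).subgroupOf (Nor (A0.map j)))
    (h3 : ∀ u v : G, ¬ ∀ x, orderOf x = 2 → IsConj u x ∨ IsConj v x) : NH j := by
  have SN : j.range ≤ Nor (A0.map j) := norS j A_nor
  have eA : IsElementaryAbelian 2 (A0.map j) := elemA j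
  have pA := H5.isPGroup_of_elem eA
  have oO := odd_Oo (Nor (A0.map j))
  have OA : Oo (Nor (A0.map j)) ≤ Cen (A0.map j) := cen_of_inf_bot le_rfl le_rfl (pPrimeCoreIn_le _ _)
    (le_normalizer.trans (lOo _)) (by
      rw [eq_bot_iff]; exact fun x hx => H9.eq_one_of_odd_of_mem pA hx.2 (odd_ord oO hx.1))
  have AA : (A0.map j) ≤ Cen (A0.map j) := fun a ha => GW.cen.2 fun b hb =>
    congrArg Subtype.val (eA.1.1.1 ⟨_, ha⟩ ⟨_, hb⟩)
  have KN : (A0.map j) ⊔ Oo (Nor (A0.map j)) ≤ Nor (A0.map j) := sup_le le_normalizer (pPrimeCoreIn_le _ _)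
  have dec : ∀ x ∈ (A0.map j) ⊔ Oo (Nor (A0.map j)), ∃ a ∈ (A0.map j), ∃ o ∈ Oo (Nor (A0.map j)), a * o = x := fun x hx =>
    (H7.mem_sup_of_le_normalizer_left (pPrimeCoreIn_le _ _)).1 hx
  have f1 : ∀ s, inA s = false → f ⟨j s, SN ⟨s, rfl⟩⟩ ≠ 1 := fun s hs e => by
    obtain ⟨a, ha, o, ho, e'⟩ := dec _ ((map_eq_one_iff_of_ker hk).1 e)
    have := H9.eq_one_of_odd_of_mem h.syl.isPGroup ((mul_mem_cancel_left (mapS j _ ha)).1
      (e' ▸ ⟨s, rfl⟩ : a * o ∈ j.range)) (odd_ord oO ho)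
    rw [this, mul_one] at e'
    exact absurd (h.mem_map.1 (mem_of_eq ha e' : j s ∈ A0.map j)) (by simp [A0, sub, hs])
  have CK : Cen (A0.map j) ≤ (A0.map j) ⊔ Oo (Nor (A0.map j)) := by
    have hn : (im f (Cen (A0.map j))).Normal := normal_of_top_le_normalizer (by
      rw [← im_self hf]; exact im_le_normalizer (ncen le_rfl))
    rcases hn.eq_bot_or_eq_top with e | e
    · exact (im_eq_bot_iff hk (cnor le_rfl)).1 e
    · have := (im_le_im_iff hk KN le_rfl (cnor le_rfl)).1 (le_top.trans e.ge) (SN ⟨t1, rfl⟩)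
      rw [sup_eq_left.2 (sup_le AA OA)] at this
      exact absurd (h.comm.1 (c1.2 (GW.cen.1 this _ ⟨e0, rfl, rfl⟩))) (by decide)
  have r60 : ((A0.map j) ⊔ Oo (Nor (A0.map j))).relIndex (Nor (A0.map j)) = 60 := by
    rw [relIndex, ← hk, index_ker, MonoidHom.range_eq_top.2 hf, card_top, Nat.card_eq_fintype_card,
      JK.card_A5]
  refine ⟨h, fun s s' s2 s2' hs hs' => ?_, fun a ha a1 => ⟨?_, ?_⟩, h3⟩
  · have sq' : ∀ s, s * s = 1 → f ⟨j s, SN ⟨s, rfl⟩⟩ * f ⟨j s, SN ⟨s, rfl⟩⟩ = 1 := fun s e => by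
      rw [← map_mul, ← map_one f]; exact congrArg f (Subtype.ext (by simp [← map_mul, e]))
    have cl : ∀ x : JK.A5, x ≠ 1 → x * x = 1 → IsConj JK.v5 x := fun x x1 x2 => by
      obtain ⟨g, e⟩ := JK.cls5_conj x
      rw [show JK.cls5 x = 1 by simp [JK.cls5, x1, x2]] at e
      exact isConj_iff.2 ⟨g, mul_inv_eq_iff_eq_mul.2 e⟩
    obtain ⟨y, e⟩ := isConj_iff.1 ((cl _ (f1 s hs) (sq' s s2)).symm.trans (cl _ (f1 s' hs') (sq' s' s2')))
    obtain ⟨n, rfl⟩ := hf y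
    have t2 : j s' * j s' = 1 := by rw [← map_mul, s2', map_one]
    obtain ⟨_, ⟨a, ha, rfl⟩, o, ho, e'⟩ := dec (n * j s * (n : G)⁻¹ * j s')
      ((map_eq_one_iff_of_ker hk (x := n * ⟨j s, SN ⟨s, rfl⟩⟩ * n⁻¹ * ⟨j s', SN ⟨s', rfl⟩⟩)).1 (by
        rw [map_mul, map_mul, map_mul, map_inv, e, sq' s' s2']))
    obtain ⟨m, hm⟩ := odd_ord oO ho
    have x2 : (n : G) * j s * (n : G)⁻¹ * (n * j s * (n : G)⁻¹) = 1 := by
      rw [conj_mul, ← map_mul, s2]; simp
    have wN : (n : G) * j s * (n : G)⁻¹ * j s' ∈ Nor (A0.map j) := e' ▸ KN (mul_mem (mem_sup_left ⟨a, ha, rfl⟩)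
      (mem_sup_right ho))
    generalize hx : (n : G) * j s * (n : G)⁻¹ = x at e' x2 wN
    have c : Commute (j a) o := (GW.cen.1 (OA ho) _ ⟨a, ha, rfl⟩).symm
    have e1 : (x * j s') ^ (2 * m + 1) = j a := by
      rw [← e', c.mul_pow, ← hm, pow_orderOf_eq_one, mul_one, hm, pow_succ, pow_mul, sq, ← map_mul,
        A_sq a ha, map_one, one_pow, one_mul]
    have e2 : j s' * (x * j s') * (j s')⁻¹ = (x * j s')⁻¹ := by
      rw [mul_inv_rev, inv_eq_of_mul_eq_one_right x2, inv_eq_of_mul_eq_one_right t2, mul_assoc,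
        mul_assoc, t2, mul_one]
    have e3 : (x * j s') ^ m * x * ((x * j s') ^ m)⁻¹ = j (a * s') := by
      rw [map_mul, ← e1]
      calc _ = (x * j s') ^ (m + 1) * ((j s')⁻¹ * ((x * j s') ^ m)⁻¹ * j s') * (j s')⁻¹ := by
            rw [pow_succ]; group
        _ = _ := by
            rw [← inv_pow, ← e2, conj_pow, inv_eq_of_mul_eq_one_right t2]
            calc _ = (x * j s') ^ (m + 1) * (j s' * j s') * (x * j s') ^ m * (j s' * j s') * j s' := by
                  group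
              _ = _ := by rw [t2]; group
    obtain ⟨g, e4⟩ := (by decide +kernel : ∀ s', s' * s' = 1 → inA s' = false → ∀ a, inA a = true →
      a * s' * (a * s') = 1 → ∃ g, g * (a * s') * g⁻¹ = s') s' s2' hs' a ha
      (h.inj (by rw [map_mul, ← e3, conj_mul, x2]; simp))
    exact MT.Cj.trans (MT.Cj.trans (b := x) ⟨n, n.2, hx⟩ ⟨_, pow_mem wN m, e3⟩) ((cjS j e4).mono SN)
  · by_contra h5
    have : Fact (Nat.Prime 5) := ⟨by norm_num⟩
    obtain ⟨P, hP⟩ := exists_isSylowOf 5 (Nor (A0.map j) ⊓ Cen1 a)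
    have c1 := SS.card_modEq_cen hP.isPGroup (hP.le.trans inf_le_left)
    have c2 := card_dvd_of_le (inf_le_left : (A0.map j) ⊓ Cen P ≤ (A0.map j))
    have c3 : Nat.card ((A0.map j) ⊓ Cen P : Subgroup G) ≠ 1 := fun e => a1 (mem_bot.1 (card_eq_one.1 e ▸
      (⟨ha, cen_iff_le.2 (hP.le.trans inf_le_right)⟩ : a ∈ (A0.map j) ⊓ Cen P)))
    rw [h.card_A] at c1 c2
    have c4 : Nat.card ((A0.map j) ⊓ Cen P : Subgroup G) = 16 := by
      have := Nat.le_of_dvd (by norm_num) c2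
      generalize Nat.card ((A0.map j) ⊓ Cen P : Subgroup G) = n at *
      unfold Nat.ModEq at c1
      interval_cases n <;> simp_all
    have c5 : P ≤ (A0.map j) ⊔ Oo (Nor (A0.map j)) := (le_cen_symm ((H6.eq_of_le_of_card_le inf_le_left
      (by rw [c4, h.card_A])).ge.trans inf_le_right)).trans CK
    have c6 := relIndex_mul_relIndex _ _ _ c5 KN
    rw [← relIndex_mul_relIndex _ _ _ hP.le inf_le_left, rel_cj, r60] at c6
    exact (((Nat.Prime.dvd_mul (by norm_num)).1 (c6 ▸ Dvd.dvd.mul_left (by norm_num) _ :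
      5 ∣ _)).resolve_left hP.not_dvd |> h5)
  · rw [← rel_cj, ← r60, ← relIndex_mul_relIndex _ _ _ (le_inf KN ((sup_le AA OA).trans
      fun g hg => c1.2 (GW.cen.1 hg a ha))) inf_le_left]
    exact Dvd.intro_left _ rfl

theorem cl3_of (h3 : Nat.card {c : ConjClasses G // ∃ x ∈ c.carrier, orderOf x = 2} = 3) (u v : G) :
    ¬ ∀ x, orderOf x = 2 → IsConj u x ∨ IsConj v x := fun h => by
  have c := H9.card_subtype_le_of_imp (A := fun c : ConjClasses G => ∃ x ∈ c.carrier, orderOf x = 2)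
    (B := fun c => c ∈ ({ConjClasses.mk u, ConjClasses.mk v} : Set (ConjClasses G))) (by
      rintro c ⟨x, hx, o⟩
      rw [← ConjClasses.mem_carrier_iff_mk_eq.1 hx]
      exact (h x o).imp (fun e => (ConjClasses.mk_eq_mk_iff_isConj.2 e).symm)
        fun e => (ConjClasses.mk_eq_mk_iff_isConj.2 e).symm)
  have c2 := Set.ncard_insert_le (ConjClasses.mk u) {ConjClasses.mk v}
  rw [Set.ncard_singleton, ← Nat.card_coe_set_eq] at c2
  change _ ≤ Nat.card ({ConjClasses.mk u, ConjClasses.mk v} : Set (ConjClasses G)) at c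
  omega

end A8
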