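import Cfsg.Agent.A8.J
import Mathlib.GroupTheory.SpecificGroups.Alternating

/-! The group `Z₂ ≀ (Z₂ × Z₂)` of order 64, a Sylow 2-subgroup of `A₈`. -/

set_option autoImplicit false

namespace A8

open Equiv

/-- `(a, b, c, d) τ^p σ^q` -/
structure S0 where
  a : Bool
  b : Bool
  c : Bool
  d : Bool
  p : Bool
  q : Bool
  deriving DecidableEq

namespace S0

/-- a coordinate of the permuted vector -/
def sel (p q a b c d : Bool) : Bool := bif p then (bif q then d else b) else (bif q then c else a)

instance instMulS0 : Mul S0 := ⟨fun x y => ⟨xor x.a (sel x.p x.q y.a y.b y.c y.d),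
  xor x.b (sel x.p x.q y.b y.a y.d y.c), xor x.c (sel x.p x.q y.c y.d y.a y.b),
  xor x.d (sel x.p x.q y.d y.c y.b y.a), xor x.p y.p, xor x.q y.q⟩⟩
instance instOneS0 : One S0 := ⟨⟨false, false, false, false, false, false⟩⟩
instance instInvS0 : Inv S0 := ⟨fun x => ⟨sel x.p x.q x.a x.b x.c x.d, sel x.p x.q x.b x.a x.d x.c,
  sel x.p x.q x.c x.d x.a x.b, sel x.p x.q x.d x.c x.b x.a, x.p, x.q⟩⟩

theorem mul_def (x y : S0) : x * y = ⟨xor x.a (sel x.p x.q y.a y.b y.c y.d),
  xor x.b (sel x.p x.q y.b y.a y.d y.c), xor x.c (sel x.p x.q y.c y.d y.a y.b),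
  xor x.d (sel x.p x.q y.d y.c y.b y.a), xor x.p y.p, xor x.q y.q⟩ := rfl

/-- coordinates -/
def equivProd : Bool × Bool × Bool × Bool × Bool × Bool ≃ S0 where
  toFun x := ⟨x.1, x.2.1, x.2.2.1, x.2.2.2.1, x.2.2.2.2.1, x.2.2.2.2.2⟩
  invFun x := (x.a, x.b, x.c, x.d, x.p, x.q)
  left_inv _ := rfl
  right_inv _ := rfl

instance instFintypeS0 : Fintype S0 := Fintype.ofEquiv _ equivProd

instance instGroupS0 : Group S0 := Group.ofLeftAxioms (by
  rintro ⟨a, b, c, d, p, q⟩ ⟨a', b', c', d', p', q'⟩ ⟨a'', b'', c'', d'', p'', q''⟩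
  cases p <;> cases q <;> cases p' <;> cases q' <;> simp [mul_def, sel])
  (by decide +kernel) (by decide +kernel)

theorem card_S0 : Fintype.card S0 = 64 := by decide +kernel

end S0

/-- the central involution -/
def z0 : S0 := ⟨true, true, true, true, false, false⟩
def e0 : S0 := ⟨true, false, false, false, false, false⟩
def a0 : S0 := ⟨true, true, false, false, false, false⟩
def t1 : S0 := ⟨false, false, false, false, true, false⟩
def t2 : S0 := ⟨false, false, false, false, false, true⟩

/-- the augmentation -/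
def aug (x : S0) : Bool := xor (xor x.a x.b) (xor x.c x.d)

def inA (x : S0) : Bool := !x.p && !x.q
def inB (x : S0) : Bool := inA x && !aug x
def inQ (x : S0) : Bool := !aug x
def inZ (x : S0) : Bool := x == 1 || x == z0
def inR (x : S0) : Bool := !x.q
/-- the vectors of weight one -/
def isE (x : S0) : Bool := inA x && aug x && (x.a && x.b || x.c && x.d) == false
def isZ (x : S0) : Bool := x == z0 || isE x

def A0 : Subgroup S0 := sub inA (by decide +kernel)
def B0 : Subgroup S0 := sub inB (by decide +kernel)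
def Q0 : Subgroup S0 := sub inQ (by decide +kernel)

theorem zc : ∀ x : S0, x * z0 = z0 * x := by decide +kernel
theorem A_comm : ∀ a, inA a = true → ∀ b, inA b = true → a * b = b * a := by decide +kernel
theorem A_sq : ∀ a, inA a = true → a * a = 1 := by decide +kernel
theorem A_nor : ∀ g a, inA a = true → inA (g * a * g⁻¹) = true := by decide +kernel
theorem Q_nor : ∀ g a, inQ a = true → inQ (g * a * g⁻¹) = true := by decide +kernel
theorem cc_out : ∀ s : S0, s * s = 1 → inA s = false → cc s = 16 := by decide +kernel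
theorem card_A0 : (Finset.univ.filter fun c => inA c = true).card = 16 := by decide +kernel
theorem card_Q0 : (Finset.univ.filter fun c => inQ c = true).card = 32 := by decide +kernel

/-- the automorphism interchanging vectors of weight one and three -/
def om : S0 →* S0 := MonoidHom.mk' (fun x => bif aug x then x * z0 else x) (by decide +kernel)

theorem om_bij : Function.Bijective om :=
  Function.Involutive.bijective (by decide +kernel : ∀ x, om (om x) = x)

/-- optional factor -/
def pw (b : Bool) (g : Perm (Fin 8)) : Perm (Fin 8) := bif b then g else 1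

/-- the permutation -/
def ph (x : S0) : Perm (Fin 8) := pw x.a (swap 0 2 * swap 1 3) * pw x.b (swap 1 2 * swap 0 3) *
  pw x.c (swap 4 6 * swap 5 7) * pw x.d (swap 5 6 * swap 4 7) * pw x.p (swap 0 1 * swap 4 5) *
  pw x.q (swap 0 4 * swap 1 5 * (swap 2 6 * swap 3 7))

/-- the permutation, in binary coordinates -/
def act (x : S0) (i : ℕ) : ℕ :=
  let k := bif x.q then i ^^^ 4 else i
  let l := bif x.p && Nat.blt (k % 4) 2 then k ^^^ 1 else k
  l ^^^ (bif Nat.blt l 4 then (bif x.a then 2 else 0) ^^^ (bif x.b then 3 else 0)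
    else (bif x.c then 2 else 0) ^^^ (bif x.d then 3 else 0))

theorem ph_act : ∀ x : S0, ∀ i, (ph x i).1 = act x i.1 := by decide +kernel

theorem act_mul : ∀ x y : S0, ∀ i : Fin 8, act (x * y) i = act x (act y i) := by decide +kernel

theorem ph_mul (x y : S0) (i : Fin 8) : ph (x * y) i = ph x (ph y i) :=
  Fin.ext (by rw [ph_act, ph_act, ph_act, act_mul])

theorem ph_inj : ∀ x : S0, (∀ i, ph x i = i) → x = 1 := by decide +kernel

theorem sign_pw (b : Bool) {g : Perm (Fin 8)} (h : Perm.sign g = 1) : Perm.sign (pw b g) = 1 := by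
  cases b <;> simp [pw, h]

theorem ph_mem (x : S0) : ph x ∈ alternatingGroup (Fin 8) := by
  rw [Perm.mem_alternatingGroup, ph]
  simp only [Perm.sign_mul]
  rw [sign_pw, sign_pw, sign_pw, sign_pw, sign_pw, sign_pw] <;> simp

/-- the embedding in `A₈` -/
def emb : S0 →* alternatingGroup (Fin 8) :=
  MonoidHom.mk' (fun x => ⟨ph x, ph_mem x⟩) fun x y => Subtype.ext (Equiv.ext (ph_mul x y))

theorem emb_inj : Function.Injective emb :=
  (injective_iff_map_eq_one _).2 fun x e =>
    ph_inj x fun i => congrArg (fun g : alternatingGroup (Fin 8) => g.1 i) e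

theorem card_A8 : Nat.card (alternatingGroup (Fin 8)) = 20160 := by
  have := two_mul_nat_card_alternatingGroup (α := Fin 8)
  rw [Nat.card_perm, Nat.card_eq_fintype_card (α := Fin 8), Fintype.card_fin] at this
  norm_num [Nat.factorial] at this ⊢
  omega

theorem exists_SJ8 {G : Type*} [Group G] [Finite G] (S : Sylow 2 G)
    (P : Sylow 2 (alternatingGroup (Fin 8)))
    (e : (S : Subgroup G) ≃* (P : Subgroup (alternatingGroup (Fin 8)))) : ∃ j : S0 →* G, SJ j :=
  exists_SJ emb_inj (n := 6) (m := 315) S0.card_S0 card_A8 (by norm_num) S P e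

end A8
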