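import Cfsg.Agent.A8.S0

/-! The centralizer of the central involution. -/

set_option autoImplicit false
set_option linter.unusedVariables false
set_option linter.unusedSectionVars false

namespace A8

open Cfsg Subgroup FT H4 H5 GW
open MT (Cj o2 isConj_mk cj_top kr tt' kr_three kr_comm kr_cj syl_kr kr_nor mul_mem_kr DD mDD
  ab_normal)

universe u

variable {G : Type u} [Group G] [Finite G]

structure HZ (j : S0 →* G) : Prop extends SJ j where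
  cen : ∀ g, g * j z0 = j z0 * g
  sc : ∀ x y, inA x = true → IsConj (j x) (j y) → inA y = true
  sb : ∀ x y, inB x = true → IsConj (j x) (j y) → inB y = true
  t12 : IsConj (j t1) (j t2)
  t13 : IsConj (j t1) (j (t1 * t2))

theorem SJ.oz {j : S0 →* G} (h : SJ j) : orderOf (j z0) = 2 := h.ord (by decide) (by decide)

theorem SJ.card_Q {j : S0 →* G} (h : SJ j) : Nat.card (Q0.map j) = 32 :=
  (h.card_map _ _).trans card_Q0

theorem SJ.card_A {j : S0 →* G} (h : SJ j) : Nat.card (A0.map j) = 16 :=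
  (h.card_map _ _).trans card_A0

theorem SJ.card64 {j : S0 →* G} (h : SJ j) : Nat.card j.range = 64 := h.card_S.trans S0.card_S0

theorem elemA (j : S0 →* G) : IsElementaryAbelian 2 (A0.map j) := elem_map j A_comm A_sq

namespace HZ

variable {j : S0 →* G} (h : HZ j)
include h

theorem mD {x g : S0} :
    j g ∈ DD h.cen (ii h.oz) (j x) ↔ g * x * g⁻¹ = x ∨ g * x * g⁻¹ = x * z0 := by
  rw [mDD, ← map_mul, ← map_inv, ← map_mul, ← map_mul, h.inj.eq_iff, h.inj.eq_iff]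

theorem fix {y : G} (ho : Odd (orderOf y)) {v v' w : S0} (e : j v' = y * j v * y⁻¹)
    (e' : v' = v * w) (h1 : w * w = 1) (h2 : y ∈ Cen1 (j w)) : y ∈ Cen1 (j v) := by
  have := fix_of_odd (y := j v) ho (k := 1) (w := j w) (by rw [pow_one, sq, ← map_mul, h1, map_one])
    (c1.1 h2) (by rw [← e, e', map_mul])
  rw [c1', ← e, e', map_mul, this, mul_one]

theorem cenQ {y : G} (ho : Odd (orderOf y)) (hn : y ∈ Nor (Q0.map j))
    (hc : ∀ b, inB b = true → y ∈ Cen1 (j b)) {q : S0} (hq : inQ q = true) : y ∈ Cen1 (j q) := by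
  obtain ⟨q', q1, e⟩ := cmem hn ⟨q, hq, rfl⟩
  have k : ∀ b, inB b = true → q' * b * q'⁻¹ = q * b * q⁻¹ := fun b hb => h.inj (by
    rw [← c1'.1 (hc _ ((by decide +kernel : ∀ g b, inB b = true → inB (g * b * g⁻¹) = true) q b hb))]
    simp only [map_mul, map_inv, e]
    conv_lhs => rw [← c1'.1 (hc b hb)]
    group)
  have w := (by decide +kernel : ∀ q q', inQ q = true → inQ q' = true →
    q' * a0 * q'⁻¹ = q * a0 * q⁻¹ → q' * (t2 * e0 * t2 * e0) * q'⁻¹ = q * (t2 * e0 * t2 * e0) * q⁻¹ →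
      inB (q⁻¹ * q') = true) q q' hq q1 (k _ rfl) (k _ rfl)
  exact h.fix ho e (mul_inv_cancel_left q q').symm
    ((by decide +kernel : ∀ b, inB b = true → b * b = 1) _ w) (hc _ w)

theorem cenB {y : G} (ho : Odd (orderOf y)) (hn : y ∈ Nor (Q0.map j)) {t : S0} (tQ : inQ t = true)
    (tZ : inZ t = false) (ht : y ∈ DD h.cen (ii h.oz) (j t)) {v : S0} (hv : inB v = true) :
    y ∈ Cen1 (j v) := by
  have yz : y ∈ Cen1 (j z0) := c1.2 (h.cen y)
  have y1 : y ∈ Cen1 (j 1) := c1.2 (by simp)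
  have ψ : ∀ b, inB b = true → ∃ b', inB b' = true ∧ j b' = y * j b * y⁻¹ := fun b hb => by
    obtain ⟨b', -, e⟩ := cmem hn ⟨b, (by decide +kernel : ∀ b, inB b = true → inQ b = true) b hb, rfl⟩
    exact ⟨b', h.sb b b' hb (e ▸ isConj_mk y _), e⟩
  have yt : y ∈ Cen1 (j t) := by
    rcases ht with e | e
    · exact c1'.2 e
    · exact h.fix ho ((map_mul j t z0).trans e.symm) rfl (by decide) yz
  obtain ⟨u, u1, u2, u3⟩ := (by decide +kernel : ∀ t, inQ t = true → inZ t = false → ∃ u,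
    inB u = true ∧ inZ u = false ∧ (u = t ∨ (u * t = t * u ∧ ∀ u', inB u' = true →
      u' * t = t * u' → u' = 1 ∨ u' = z0 ∨ u' = u ∨ u' = u * z0))) t tQ tZ
  have back : ∀ {v v' : S0}, j v' = y * j v * y⁻¹ → y ∈ Cen1 (j v') → v = v' := fun e e' =>
    h.inj (by rw [← c1'.1 e'] at e; simpa using e.symm)
  have yu : y ∈ Cen1 (j u) := by
    rcases u3 with rfl | ⟨u3, u4⟩
    · exact yt
    obtain ⟨u', e1, e2⟩ := ψ u u1
    rcases u4 u' e1 ((h.comm_iff e2 (c1'.1 yt).symm).2 u3) with e | e | e | e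
    · rw [back e2 (e ▸ y1), e]; exact y1
    · rw [back e2 (e ▸ yz), e]; exact yz
    · exact c1'.2 (by rw [← e2, e])
    · exact h.fix ho e2 e (by decide) yz
  have P : ∀ w, (w = 1 ∨ w = z0 ∨ w = u ∨ w = u * z0) → y ∈ Cen1 (j w) := by
    rintro w (rfl | rfl | rfl | rfl)
    exacts [y1, yz, yu, by rw [map_mul]; exact c1s.1 (mul_mem (c1s.1 yu) (c1s.1 yz))]
  obtain ⟨v', e1, e2⟩ := ψ v hv
  rcases (by decide +kernel : ∀ u, inB u = true → inZ u = false → ∀ v, inB v = true → ∀ v',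
    inB v' = true → (v = 1 ∨ v = z0 ∨ v = u ∨ v = u * z0) ∨ (v' = 1 ∨ v' = z0 ∨ v' = u ∨ v' = u * z0)
      ∨ (v⁻¹ * v' = 1 ∨ v⁻¹ * v' = z0 ∨ v⁻¹ * v' = u ∨ v⁻¹ * v' = u * z0) ∧
        v⁻¹ * v' * (v⁻¹ * v') = 1) u u1 u2 v hv v' e1 with e | e | e
  · exact P v e
  · rw [back e2 (P v' e)]; exact P v' e
  · exact h.fix ho e2 (mul_inv_cancel_left v v').symm e.2 (P _ e.1)

theorem main (hO : pPrimeCore 2 G = ⊥) : ⊤ ≤ Nor (A0.map j) ∧ Group.IsSolvable G := by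
  obtain ⟨φ, hφ⟩ := tt' h.syl (mapS j Q0) (by rw [h.card64, h.card_Q])
  have he := hφ (j e0) (mem_top _) (ii (h.ord (by decide) (by decide))) (by
    rintro _ ⟨s, hs, rfl⟩ e
    exact absurd (h.sb s e0 ((by decide +kernel : ∀ s, inQ s = true → inA s = true → inB s = true)
      s hs (h.sc _ _ rfl e.isConj)) e.isConj.symm) (by decide))
  have ht : j t1 ∈ kr φ := kr_three φ (mem_top _) (cj_top.2 h.t12)
    (by rw [← map_mul]; exact cj_top.2 h.t13)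
  have cm : ∀ a b, j (a * b * a⁻¹ * b⁻¹) ∈ kr φ := fun a b => by
    simp only [map_mul, map_inv]; exact kr_comm φ (mem_top _) (mem_top _)
  have hQ : Q0.map j ≤ kr φ := by
    rintro _ ⟨q, hq, rfl⟩
    obtain ⟨a, b, e⟩ := (by decide +kernel : ∀ q, inQ q = true → ∃ a b : S0,
      q = a * t1 * a⁻¹ * t1⁻¹ * (b * t2 * b⁻¹ * t2⁻¹) ∨
      q = a * t1 * a⁻¹ * t1⁻¹ * (b * t2 * b⁻¹ * t2⁻¹) * t1 ∨
      q = a * t1 * a⁻¹ * t1⁻¹ * (b * t2 * b⁻¹ * t2⁻¹) * t2 ∨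
      q = a * t1 * a⁻¹ * t1⁻¹ * (b * t2 * b⁻¹ * t2⁻¹) * t1 * t2) q hq
    have k1 : j (a * t1 * a⁻¹ * t1⁻¹ * (b * t2 * b⁻¹ * t2⁻¹)) ∈ kr φ := by
      rw [map_mul]; exact mul_mem (cm _ _) (cm _ _)
    have k2 := kr_cj (cj_top.2 h.t12) ht
    rcases e with rfl | rfl | rfl | rfl
    · exact k1
    · rw [map_mul]; exact mul_mem k1 ht
    · rw [map_mul]; exact mul_mem k1 k2
    · rw [map_mul, map_mul]; exact mul_mem (mul_mem k1 ht) k2
  have sy := syl_kr h.syl (mapS j Q0) hQ (by rw [h.card64, h.card_Q]) ⟨e0, rfl⟩ he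
  have zK : j z0 ∈ kr φ := hQ ⟨z0, rfl, rfl⟩
  have zc' : ∀ g : kr φ, g * ⟨_, zK⟩ = ⟨_, zK⟩ * g := fun g => Subtype.ext (h.cen g)
  have := normal_zp zc'
  let f := QuotientGroup.mk' (zpowers (⟨_, zK⟩ : kr φ))
  have hf : Function.Surjective f := QuotientGroup.mk'_surjective _
  have hk : f.ker = zpowers (⟨_, zK⟩ : kr φ) := QuotientGroup.ker_mk' _
  have z2 : (⟨_, zK⟩ : kr φ) * ⟨_, zK⟩ = 1 := Subtype.ext (ii h.oz)
  have fe : ∀ x y : kr φ, f x = f y ↔ (x : G) = y ∨ (x : G) = y * j z0 := fun x y => by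
    rw [eq_comm, ← inv_mul_eq_one, ← map_inv, ← map_mul, ← MonoidHom.mem_ker, hk]
    refine ⟨fun e => (mem_zp2 z2 e).imp (fun e => ?_) fun e => ?_, fun e => ?_⟩
    · rw [inv_mul_eq_one.1 e]
    · rw [inv_mul_eq_iff_eq_mul.1 e]; rfl
    · rcases e with e | e
      · rw [Subtype.ext e, inv_mul_cancel]; exact one_mem _
      · rw [show x = y * ⟨_, zK⟩ from Subtype.ext e, inv_mul_cancel_left]; exact mem_zpowers _
  have fc : ∀ x y : kr φ, f x ∈ Cen1 (f y) ↔ (x : G) ∈ DD h.cen (ii h.oz) y := fun x y => by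
    rw [c1', ← map_inv, ← map_mul, ← map_mul, fe]; rfl
  have hk' : f.ker = (zpowers (j z0)).subgroupOf (kr φ) := by
    rw [hk]; ext x
    exact ⟨by rintro ⟨k, rfl⟩; exact ⟨k, rfl⟩, fun ⟨k, e⟩ => ⟨k, Subtype.ext e⟩⟩
  have zQ : zpowers (j z0) ≤ Q0.map j := zpowers_le.2 ⟨z0, rfl, rfl⟩
  have pr : pre f (im f (Q0.map j)) = Q0.map j := pre_im_of_le hk' zQ hQ
  have O1 : pPrimeCore 2 (kr φ) = ⊥ := by
    rw [← map_eq_bot_iff_of_injective _ (kr φ).subtype_injective]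
    exact BS.eq_bot_of_odd hO ((kr_nor φ).trans (nOo _)) (odd_Oo _)
  have mA : ∀ a ∈ im f (Q0.map j), ∃ q, ∃ hq : inQ q = true, f ⟨j q, hQ ⟨q, hq, rfl⟩⟩ = a := by
    rintro _ ⟨⟨_, hx⟩, ⟨q, hq, rfl⟩, rfl⟩; exact ⟨q, hq, rfl⟩
  have ne1 : ∀ q hq, f ⟨j q, hq⟩ ≠ 1 ↔ inZ q = false := fun q hq => by
    rw [Ne, ← map_one f, fe]
    change ¬ (j q = 1 ∨ j q = 1 * j z0) ↔ _
    rw [one_mul, ← map_one j, h.inj.eq_iff, h.inj.eq_iff]
    simp [inZ]
  have QD : ∀ c ∈ Q0.map j, ∀ s, inQ s = true → c ∈ DD h.cen (ii h.oz) (j s) := by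
    rintro _ ⟨c, hc, rfl⟩ s hs
    exact h.mD.2 ((by decide +kernel : ∀ c, inQ c = true → ∀ s, inQ s = true →
      c * s * c⁻¹ = s ∨ c * s * c⁻¹ = s * z0) c hc s hs)
  obtain ⟨k1, k2⟩ := ab_normal (A := im f (Q0.map j)) (im_self hf ▸ sy.im le_rfl)
    ⟨⟨⟨fun a b => Subtype.ext (by
      obtain ⟨p, hp, e⟩ := mA a a.2
      obtain ⟨q, hq, e'⟩ := mA b b.2
      rw [coe_mul, coe_mul, ← e, ← e', ← c1, fc]
      exact QD _ ⟨p, hp, rfl⟩ q hq)⟩⟩, fun a ha => by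
      obtain ⟨p, hp, rfl⟩ := mA a ha
      rw [← map_pow, ← not_ne_iff, show (⟨j p, _⟩ : kr φ) ^ 2 = ⟨j (p ^ 2), by
        rw [map_pow]; exact pow_mem (hQ ⟨p, hp, rfl⟩) 2⟩ from Subtype.ext (map_pow j p 2).symm, ne1]
      exact (by decide +kernel : ∀ p, inQ p = true → ¬ inZ (p ^ 2) = false) p hp⟩
    (by
      have := card_eq_card_im_mul hk' hQ
      rw [inf_eq_right.2 zQ, Nat.card_zpowers, h.oz, h.card_Q] at this
      omega)
    (core_central f hf O1 zc' hk) (fun a ha a1 n n1 n2 => by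
      obtain ⟨p, hp, rfl⟩ := mA a ha
      obtain ⟨n, rfl⟩ := hf n
      have n3 : (n : G) ∈ Nor (Q0.map j) := pr ▸ pre_normalizer_le _ (coe_mem_pre.2 n1)
      obtain ⟨s, hs, y, hy, ho, e⟩ := odd_part sy n.2 n3
      have y1 := zpowers_le.2 n3 hy
      refine (fun k => mul_mem k k) (cen_iff_le.2 fun b hb => ?_)
      obtain ⟨q, hq, rfl⟩ := mA b hb
      rw [c1s, fc, e]
      exact mul_mem (QD s hs q hq) (Or.inl (c1'.1 (h.cenQ ho y1 (fun b hb => h.cenB ho y1 hp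
        ((ne1 _ _).1 a1) (zpowers_le.2 ((fc _ _).1 n2) hy) hb) hq))))
    (mem_im_of_mem (hQ ⟨a0, rfl, rfl⟩) ⟨a0, rfl, rfl⟩)
    (mem_im_of_mem ht ⟨t1, rfl, rfl⟩) ((ne1 _ _).2 (by decide)) ((ne1 _ _).2 (by decide))
    (fun e => by
      obtain ⟨y, e⟩ := isConj_iff.1 e
      obtain ⟨y, rfl⟩ := hf y
      rw [← map_inv, ← map_mul, ← map_mul, fe] at e
      rcases e with e | e
      · exact absurd (h.sc a0 t1 rfl (isConj_iff.2 ⟨y, e⟩)) (by decide)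
      · exact absurd (h.sc a0 (t1 * z0) rfl (isConj_iff.2 ⟨y, by rwa [map_mul]⟩)) (by decide))
  have n0 : kr φ ≤ Nor (Q0.map j) := by
    rw [← pr]; exact le_normalizer_pre le_rfl (le_top.trans k1)
  have n1 : ⊤ ≤ Nor (Q0.map j) := fun g _ => by
    by_cases hg : g ∈ kr φ
    · exact n0 hg
    · exact (mul_mem_cancel_right (norS j Q_nor ⟨e0, rfl⟩)).1
        (n0 (mul_mem_kr (mem_top g) (mem_top _) hg he))
  have n2 : ⊤ ≤ Nor (B0.map j) := fun g hg => mnor (by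
    rintro _ ⟨b, hb, rfl⟩
    obtain ⟨b', -, e⟩ := cmem (n1 hg)
      ⟨b, (by decide +kernel : ∀ b, inB b = true → inQ b = true) b hb, rfl⟩
    exact ⟨b', h.sb b b' hb (e ▸ isConj_mk g _), e⟩)
  have n3 : IsPGroup 2 (Cen (B0.map j)) := H5.isPGroup_of_forall_prime fun y hy ho => by
    replace ho := odd_iff_cop.2 ho
    have y1 : y ∈ kr φ := GW.mem_of_sq_mem ho (by
      by_contra e
      exact e (mul_mem_kr (mem_top y) (mem_top y) (fun e' => e (mul_mem e' e'))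
        fun e' => e (mul_mem e' e')))
    have y2 : y ∈ Q0.map j := by
      rw [← pr]
      exact mem_pre.2 ⟨y1, k2 _ (mem_im_of_mem (hQ ⟨a0, rfl, rfl⟩) ⟨a0, rfl, rfl⟩)
        ((ne1 _ _).2 (by decide)) ((fc _ _).2 (Or.inl (c1'.1 (c1.2 (GW.cen.1 hy _ ⟨a0, rfl, rfl⟩)))))⟩
    exact H9.eq_one_of_odd_of_mem sy.isPGroup y2 ho
  have e : Cen (B0.map j) = A0.map j := le_antisymm (fun g hg => by
    obtain ⟨s, rfl⟩ := h.syl.le_of_le_normalizer n3 le_top (le_top.trans (ncen n2)) hg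
    exact ⟨s, (by decide +kernel : ∀ s, s * a0 = a0 * s →
      s * (t2 * e0 * t2 * e0) = t2 * e0 * t2 * e0 * s → inA s = true) s
      (h.comm.1 (c1.2 (GW.cen.1 hg _ ⟨_, rfl, rfl⟩))) (h.comm.1 (c1.2 (GW.cen.1 hg _ ⟨_, rfl, rfl⟩))), rfl⟩)
    (by
      rintro _ ⟨a, ha, rfl⟩
      refine GW.cen.2 ?_
      rintro _ ⟨b, hb, rfl⟩
      exact c1.1 (h.comm.2 (A_comm a ha b
        ((by decide +kernel : ∀ b, inB b = true → inA b = true) b hb))))
  refine ⟨e ▸ ncen n2, ?_⟩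
  have s1 := W.solv_of_syl sy hQ n0 le_rfl (isSolvable_of_isPGroup sy.isPGroup)
  have s2 := solv_of_der (H := ⊤) (H5.isSolvable_of_le (commutator_le.2 fun a ha b hb =>
    kr_comm φ ha hb) s1)
  exact Group.isSolvable_of_surjective (f := (⊤ : Subgroup G).subtype) fun x => ⟨⟨x, mem_top x⟩, rfl⟩

end HZ

end A8
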